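import Groth.Agent.Bertini.Affine
import Groth.Agent.S10903
import Groth.Agent.Omega.RankDim
import Mathlib.RingTheory.Smooth.Locus

/-!
# Bertini for forms of a given degree on projective space

* `formallySmooth_quotient`: a hypersurface with nowhere vanishing differential in a smooth algebra is smooth.
* `exists_smooth_chart_poly`: general forms of degree `d` cut a smooth chart in a smooth chart.
* `isRegular_cone`: the cone over a smooth chart is regular.
* `exists_general_forms`: general complete intersections are smooth.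
-/

set_option autoImplicit false

universe u

open TensorProduct MvPolynomial

noncomputable section

namespace Groth.Agent.BertiniPn

variable {k : Type u} [Field k]

section Affine

variable {A : Type u} [CommRing A] [Algebra k A]

/-- A hypersurface with nowhere vanishing differential in a smooth algebra is smooth. -/
theorem formallySmooth_quotient [Algebra.FormallySmooth k A] [Module.Finite A Ω[A⁄k]] (h : A)
    (hd : ∀ (P : Ideal A) [P.IsPrime], h ∈ P → (1 : P.ResidueField) ⊗ₜ[A] KaehlerDifferential.D k A h ≠ 0) :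
    Algebra.FormallySmooth k (A ⧸ Ideal.span {h}) := by
  classical
  let R := A ⧸ Ideal.span {h}
  have hsurj : Function.Surjective (algebraMap A R) := Ideal.Quotient.mk_surjective
  have hmem : h ∈ RingHom.ker (algebraMap A R) := by
    rw [RingHom.mem_ker, Ideal.Quotient.algebraMap_eq, Ideal.Quotient.eq_zero_iff_mem]
    exact Ideal.mem_span_singleton_self h
  let t : (RingHom.ker (algebraMap A R)).Cotangent := Ideal.toCotangent _ ⟨h, hmem⟩
  obtain ⟨N, π, hπ⟩ := Module.Finite.exists_fin' A Ω[A⁄k]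
  obtain ⟨ι, hι⟩ := Module.projective_lifting_property π LinearMap.id hπ
  have hone : Ideal.span (Set.range fun i => algebraMap A R (ι (KaehlerDifferential.D k A h) i)) = ⊤ := by
    by_contra hne
    obtain ⟨m, hm, hle⟩ := Ideal.exists_le_maximal _ hne
    haveI := hm.isPrime
    let P := m.comap (algebraMap A R)
    have hhP : h ∈ P := by
      show algebraMap A R h ∈ m
      rw [RingHom.mem_ker.1 hmem]; exact m.zero_mem
    refine hd P hhP ?_
    have h1 : (1 : P.ResidueField) ⊗ₜ[A] KaehlerDifferential.D k A h =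
        π.lTensor P.ResidueField ((1 : P.ResidueField) ⊗ₜ[A] ι (KaehlerDifferential.D k A h)) := by
      rw [LinearMap.lTensor_tmul]
      exact congrArg _ (LinearMap.congr_fun hι _).symm
    rw [h1, pi_eq_sum_univ' (ι (KaehlerDifferential.D k A h)), tmul_sum, map_sum]
    refine Finset.sum_eq_zero fun i _ => ?_
    rw [← smul_tmul, Algebra.smul_def, mul_one,
      Ideal.algebraMap_residueField_eq_zero.2 (show _ ∈ P from hle (Ideal.subset_span ⟨i, rfl⟩)), zero_tmul, map_zero]
  obtain ⟨c, hc⟩ := (Ideal.mem_span_range_iff_exists_fun).1 (hone.ge (Submodule.mem_top (x := (1 : R))))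
  let ψ : (R ⊗[A] Ω[A⁄k]) →ₗ[R] R :=
    (∑ i, c i • LinearMap.proj i) ∘ₗ (TensorProduct.piScalarRight A R R (Fin N)).toLinearMap ∘ₗ
      LinearMap.baseChange R ι
  have hψ : ψ ((1 : R) ⊗ₜ KaehlerDifferential.D k A h) = 1 := by
    refine Eq.trans ?_ hc
    simp [ψ, Algebra.smul_def, mul_comm]
  let tR : R →ₗ[A] (RingHom.ker (algebraMap A R)).Cotangent :=
    Submodule.liftQ (Ideal.span {h}) (LinearMap.toSpanSingleton A _ t) fun z hz =>
      Ideal.Cotangent.smul_eq_zero_of_mem ((Ideal.span_singleton_le_iff_mem _).2 hmem hz) t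
  let l : (R ⊗[A] Ω[A⁄k]) →ₗ[A] (RingHom.ker (algebraMap A R)).Cotangent := tR ∘ₗ ψ.restrictScalars A
  refine (Algebra.FormallySmooth.iff_split_injection (P := A) hsurj).2 ⟨l, ?_⟩
  refine LinearMap.ext fun z => ?_
  obtain ⟨⟨z, hz⟩, rfl⟩ := Ideal.toCotangent_surjective _ z
  have hz' : z ∈ Ideal.span {h} := by
    rw [← Ideal.Quotient.eq_zero_iff_mem]; exact hz
  obtain ⟨a, rfl⟩ := Ideal.mem_span_singleton'.1 hz'
  have hz2 : (⟨a * h, hz⟩ : RingHom.ker (algebraMap A R)) = a • ⟨h, hmem⟩ := rfl
  rw [hz2, map_smul, map_smul, LinearMap.id_apply]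
  refine congrArg (a • ·) ?_
  rw [LinearMap.comp_apply, KaehlerDifferential.kerCotangentToTensor_toCotangent]
  show tR (ψ _) = t
  rw [hψ]
  exact one_smul A t

/-- General combinations of functions whose differentials span cut out smooth hypersurfaces. -/
theorem exists_smooth_poly [Algebra.FiniteType k A] [Algebra.FormallySmooth k A] {ι : Type} [Fintype ι]
    (x : ι → A) (i₀ : ι) (h₀ : x i₀ = 1)
    (hspan : Submodule.span A (Set.range fun i => KaehlerDifferential.D k A (x i)) = ⊤) :
    ∃ g : MvPolynomial ι k, g ≠ 0 ∧ ∀ b : ι → k, eval b g ≠ 0 →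
      Algebra.FormallySmooth k (A ⧸ Ideal.span {∑ i, algebraMap k A (b i) * x i}) := by
  classical
  obtain ⟨N, hN⟩ : ∃ N, Fintype.card ι = N + 1 :=
    ⟨Fintype.card ι - 1, (Nat.succ_pred_eq_of_pos (Fintype.card_pos_iff.2 ⟨i₀⟩)).symm⟩
  let e₁ : Fin (N + 1) ≃ ι := ((Fintype.equivFin ι).trans (finCongr hN)).symm
  let e : Fin (N + 1) ≃ ι := e₁.trans (Equiv.swap (e₁ 0) i₀)
  have he : e 0 = i₀ := by simp [e]
  have hspan' : Submodule.span A (Set.range fun i : Fin N => KaehlerDifferential.D k A (x (e i.succ))) = ⊤ := by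
    refine top_unique (hspan.ge.trans (Submodule.span_le.2 ?_))
    rintro _ ⟨i, rfl⟩
    obtain ⟨j, rfl⟩ := e.surjective i
    induction j using Fin.cases with
    | zero => simp only [he, h₀, Derivation.map_one_eq_zero, SetLike.mem_coe]; exact Submodule.zero_mem _
    | succ j => exact Submodule.subset_span ⟨j, rfl⟩
  obtain ⟨g, hg0, hg⟩ := Bertini.exists_poly_tangent (k := k) (fun i : Fin N => x (e i.succ)) hspan'
  refine ⟨rename e g, fun h => hg0 (rename_injective _ e.injective (by rw [h, map_zero])), fun b hb => ?_⟩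
  rw [eval_rename] at hb
  have hsum : ∑ i, algebraMap k A (b i) * x i =
      algebraMap k A ((b ∘ e) 0) + ∑ i : Fin N, algebraMap k A ((b ∘ e) i.succ) * x (e i.succ) := by
    rw [← Equiv.sum_comp e, Fin.sum_univ_succ, he, h₀, mul_one, Function.comp_apply, he]
    rfl
  rw [hsum]
  exact formallySmooth_quotient _ fun P _ hP => hg (b ∘ e) hb P hP

end Affine

variable {n : ℕ}

local notation "𝕊" => MvPolynomial (Fin (n + 1)) k

/-- The affine chart `X j = 1` of the cone of `J`. -/
abbrev chartIdeal (J : Ideal 𝕊) (j : Fin (n + 1)) : Ideal 𝕊 := J ⊔ Ideal.span {X j - 1}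

/-- The form with coefficients `b`. -/
def form (d : ℕ) (b : (Fin d → Fin (n + 1)) → k) : 𝕊 := ∑ t, C (b t) * ∏ i, X (t i)

theorem form_isHomogeneous (d : ℕ) (b : (Fin d → Fin (n + 1)) → k) : (form d b).IsHomogeneous d := by
  refine IsHomogeneous.sum _ _ _ fun t _ => ?_
  have := (isHomogeneous_C (Fin (n + 1)) (b t)).mul (IsHomogeneous.prod (R := k) Finset.univ (fun i => X (t i))
    (fun _ => 1) fun i _ => isHomogeneous_X k (t i))
  simpa using this

theorem exists_smooth_chart_poly (J : Ideal 𝕊) (j : Fin (n + 1)) {d : ℕ} (hd : 0 < d)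
    (hJ : Algebra.FormallySmooth k (𝕊 ⧸ chartIdeal J j)) :
    ∃ g : MvPolynomial (Fin d → Fin (n + 1)) k, g ≠ 0 ∧ ∀ b, eval b g ≠ 0 →
      Algebra.FormallySmooth k (𝕊 ⧸ chartIdeal (J ⊔ Ideal.span {form d b}) j) := by
  classical
  let A := 𝕊 ⧸ chartIdeal J j
  let x : (Fin d → Fin (n + 1)) → A := fun t => Ideal.Quotient.mk _ (∏ i, X (t i))
  have hXj : Ideal.Quotient.mk (chartIdeal J j) (X j) = 1 := by
    rw [← map_one (Ideal.Quotient.mk (chartIdeal J j)), Ideal.Quotient.eq]
    exact Ideal.mem_sup_right (Ideal.mem_span_singleton_self _)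
  have hxl : ∀ l, x (Function.update (fun _ => j) ⟨0, hd⟩ l) = Ideal.Quotient.mk _ (X l) := fun l => by
    simp only [x, map_prod]
    rw [Finset.prod_eq_single (⟨0, hd⟩ : Fin d)]
    · rw [Function.update_self]
    · intro i _ hi; rw [Function.update_of_ne hi]; exact hXj
    · intro h; exact absurd (Finset.mem_univ _) h
  have hspan : Submodule.span A (Set.range fun t => KaehlerDifferential.D k A (x t)) = ⊤ := by
    rw [eq_top_iff, ← KaehlerDifferential.span_range_derivation, Submodule.span_le]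
    rintro _ ⟨z, rfl⟩
    obtain ⟨p, rfl⟩ := Ideal.Quotient.mk_surjective z
    induction p using MvPolynomial.induction_on with
    | C r =>
      rw [show Ideal.Quotient.mk (chartIdeal J j) (C r) = algebraMap k A r from rfl, Derivation.map_algebraMap]
      exact Submodule.zero_mem _
    | add p q hp hq => rw [map_add, map_add]; exact add_mem hp hq
    | mul_X p i hp =>
      rw [map_mul, Derivation.leibniz]
      exact add_mem (Submodule.smul_mem _ _ (Submodule.subset_span ⟨_, congrArg _ (hxl i)⟩))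
        (Submodule.smul_mem _ _ hp)
  obtain ⟨g, hg0, hg⟩ := exists_smooth_poly (k := k) x (fun _ => j) (by simp [x, map_prod, hXj]) hspan
  refine ⟨g, hg0, fun b hb => ?_⟩
  haveI := hg b hb
  have hsum : ∑ t, algebraMap k A (b t) * x t = Ideal.Quotient.mkₐ k _ (form d b) := by
    simp only [x, form, map_sum, map_mul]
    rfl
  refine Algebra.FormallySmooth.of_equiv (A := A ⧸ Ideal.span {∑ t, algebraMap k A (b t) * x t}) ?_
  refine (Ideal.quotientEquivAlgOfEq k ?_).trans ((DoubleQuot.quotQuotEquivQuotSupₐ k (chartIdeal J j)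
    (Ideal.span {form d b})).trans (Ideal.quotientEquivAlgOfEq k ?_))
  · rw [hsum, Ideal.map_span, Set.image_singleton]
  · simp only [chartIdeal]; rw [sup_right_comm]

theorem formallySmooth_chart_bot (j : Fin (n + 1)) : Algebra.FormallySmooth k (𝕊 ⧸ chartIdeal (⊥ : Ideal 𝕊) j) := by
  classical
  haveI : Algebra.FormallySmooth k (𝕊 ⧸ Ideal.span {(X j - 1 : 𝕊)}) := formallySmooth_quotient _ fun P _ _ h0 => by
    let δ : Derivation k 𝕊 P.ResidueField := mkDerivation k fun i => if i = j then 1 else 0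
    have := congrArg (δ.liftKaehlerDifferential.liftBaseChange P.ResidueField) h0
    rw [LinearMap.liftBaseChange_tmul, one_smul, Derivation.liftKaehlerDifferential_comp_D, map_sub, map_zero,
      Derivation.map_one_eq_zero, sub_zero, mkDerivation_X, if_pos rfl] at this
    exact one_ne_zero this
  exact Algebra.FormallySmooth.of_equiv (A := 𝕊 ⧸ Ideal.span {(X j - 1 : 𝕊)})
    (Ideal.quotientEquivAlgOfEq k (by simp [chartIdeal]))

theorem exists_avoid_poly (P : Ideal 𝕊) [P.IsPrime] (l : Fin (n + 1)) (hl : X l ∉ P) (d : ℕ) :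
    ∃ g : MvPolynomial (Fin d → Fin (n + 1)) k, g ≠ 0 ∧ ∀ b, eval b g ≠ 0 → form d b ∉ P := by
  classical
  have hne : Ideal.Quotient.mkₐ k P (∏ _i : Fin d, X l) ≠ 0 := by
    rw [Ideal.Quotient.mkₐ_eq_mk, Ne, Ideal.Quotient.eq_zero_iff_mem, Finset.prod_const]
    exact fun h => hl (Ideal.IsPrime.mem_of_pow_mem ‹_› _ h)
  obtain ⟨lam, hlam⟩ : ∃ lam : (𝕊 ⧸ P) →ₗ[k] k, lam (Ideal.Quotient.mkₐ k P (∏ _i : Fin d, X l)) ≠ 0 := by
    by_contra hall
    push Not at hall
    exact hne ((Module.forall_dual_apply_eq_zero_iff k _).1 hall)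
  let c : (Fin d → Fin (n + 1)) → k := fun t => lam (Ideal.Quotient.mkₐ k P (∏ i, X (t i)))
  refine ⟨∑ t, C (c t) * X t, fun h => hlam ?_, fun b hb hm => hb ?_⟩
  · have := congrArg (eval (Pi.single (fun _ => l) (1 : k))) h
    simpa [c, map_sum, Pi.single_apply] using this
  · have h1 : lam (Ideal.Quotient.mkₐ k P (form d b)) = eval b (∑ t, C (c t) * X t) := by
      simp only [form, map_sum, map_mul, eval_C, eval_X, c]
      refine Finset.sum_congr rfl fun t _ => ?_
      rw [← algebraMap_eq, AlgHom.commutes, ← Algebra.smul_def, map_smul, smul_eq_mul, mul_comm]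
    rw [← h1, Ideal.Quotient.mkₐ_eq_mk, Ideal.Quotient.eq_zero_iff_mem.2 hm, map_zero]

theorem aeval_scale {B : Type*} [CommRing B] [Algebra k B] {p : 𝕊} {e : ℕ} (hp : p.IsHomogeneous e) (a : B)
    (y : Fin (n + 1) → B) : aeval (fun i => a * y i) p = a ^ e * aeval y p := by
  classical
  rw [← p.support_sum_monomial_coeff, map_sum, map_sum, Finset.mul_sum]
  refine Finset.sum_congr rfl fun m hm => ?_
  have hk : m.sum (fun _ c => c) = e := by rw [hp.degree_eq_sum_deg_support hm]; rfl
  rw [aeval_monomial, aeval_monomial, ← hk, Finsupp.sum, ← Finset.prod_pow_eq_pow_sum]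
  simp only [Finsupp.prod, mul_pow, Finset.prod_mul_distrib]
  ring

/-- The cone over a smooth chart is smooth. -/
theorem formallySmooth_away {r : ℕ} (f : Fin r → 𝕊) (d : Fin r → ℕ) (hf : ∀ i, (f i).IsHomogeneous (d i))
    (j : Fin (n + 1)) [Algebra.FormallySmooth k (𝕊 ⧸ chartIdeal (Ideal.span (Set.range f)) j)] :
    Algebra.FormallySmooth k (Localization.Away (Ideal.Quotient.mk (Ideal.span (Set.range f)) (X j))) := by
  classical
  let J := Ideal.span (Set.range f)
  let B := 𝕊 ⧸ chartIdeal J j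
  let A := Localization.Away (Ideal.Quotient.mk J (X j))
  let L := Localization.Away (Polynomial.X : Polynomial B)
  haveI : Algebra.FormallySmooth B L := by
    haveI : Algebra.FormallySmooth (Polynomial B) L :=
      Algebra.FormallySmooth.of_isLocalization (Submonoid.powers (Polynomial.X : Polynomial B))
    exact Algebra.FormallySmooth.comp B (Polynomial B) L
  haveI : Algebra.FormallySmooth k L := Algebra.FormallySmooth.comp k B L
  let τ : L := IsScalarTower.toAlgHom B (Polynomial B) L (Polynomial.X : Polynomial B)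
  let q : Fin (n + 1) → L := fun l => algebraMap B L (Ideal.Quotient.mk _ (X l))
  let Φ : 𝕊 →ₐ[k] L := aeval fun l => τ * q l
  have hq : aeval (R := k) q = (IsScalarTower.toAlgHom k B L).comp (Ideal.Quotient.mkₐ k (chartIdeal J j)) :=
    algHom_ext fun l => by
      rw [aeval_X, AlgHom.comp_apply, IsScalarTower.toAlgHom_apply]
      rfl
  have hΦJ : ∀ z ∈ J, Φ z = 0 := fun z hz => by
    induction hz using Submodule.span_induction with
    | mem z hz =>
      obtain ⟨i, rfl⟩ := hz
      rw [aeval_scale (hf i), hq, AlgHom.comp_apply, Ideal.Quotient.mkₐ_eq_mk,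
        Ideal.Quotient.eq_zero_iff_mem.2 (Ideal.mem_sup_left (Ideal.subset_span (Set.mem_range_self (f := f) i))), map_zero, mul_zero]
    | zero => exact map_zero _
    | add a b _ _ ha hb => rw [map_add, ha, hb, add_zero]
    | smul c a _ ha => rw [smul_eq_mul, map_mul, ha, mul_zero]
  have hτ : IsUnit τ := IsLocalization.Away.algebraMap_isUnit (S := L) (Polynomial.X : Polynomial B)
  have hqj : q j = 1 := by
    have : Ideal.Quotient.mk (chartIdeal J j) (X j) = 1 := by
      rw [← map_one (Ideal.Quotient.mk (chartIdeal J j)), Ideal.Quotient.eq]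
      exact Ideal.mem_sup_right (Ideal.mem_span_singleton_self _)
    simp only [q, this, map_one]
  let Φ' : A →ₐ[k] L := IsLocalization.liftAlgHom (M := Submonoid.powers (Ideal.Quotient.mk J (X j)))
    (f := Ideal.Quotient.liftₐ J Φ hΦJ) (by
      rintro ⟨_, m, rfl⟩
      rw [map_pow]
      refine IsUnit.pow m ?_
      change IsUnit (Φ (X j))
      rw [show Φ (X j) = τ * q j from aeval_X _ _, hqj, mul_one]
      exact hτ)
  have hΦ' : ∀ z, Φ' (algebraMap (𝕊 ⧸ J) A (Ideal.Quotient.mk J z)) = Φ z := fun z => by simp [Φ']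
  let v : Fin (n + 1) → A := fun l => algebraMap (𝕊 ⧸ J) A (Ideal.Quotient.mk J (X l))
  let w : A := IsLocalization.Away.invSelf (Ideal.Quotient.mk J (X j))
  have hw : v j * w = 1 := IsLocalization.Away.mul_invSelf _
  have hv : aeval (R := k) v = (IsScalarTower.toAlgHom k (𝕊 ⧸ J) A).comp (Ideal.Quotient.mkₐ k J) :=
    algHom_ext fun l => by simp [v, Ideal.Quotient.mkₐ_eq_mk]
  let ψ₀ : 𝕊 →ₐ[k] A := aeval fun l => w * v l
  have hψ₀ : chartIdeal J j ≤ RingHom.ker ψ₀ := by
    refine sup_le (Ideal.span_le.2 ?_) (Ideal.span_le.2 ?_)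
    · rintro _ ⟨i, rfl⟩
      rw [SetLike.mem_coe, RingHom.mem_ker, aeval_scale (hf i), hv, AlgHom.comp_apply, Ideal.Quotient.mkₐ_eq_mk,
        Ideal.Quotient.eq_zero_iff_mem.2 (Ideal.subset_span (Set.mem_range_self (f := f) i)), map_zero, mul_zero]
    · rintro _ rfl
      rw [SetLike.mem_coe, RingHom.mem_ker, map_sub, map_one, aeval_X, mul_comm, hw, sub_self]
  let ψB : B →ₐ[k] A := Ideal.Quotient.liftₐ _ ψ₀ fun z hz => hψ₀ hz
  letI : Algebra B A := ψB.toRingHom.toAlgebra
  haveI : IsScalarTower k B A := IsScalarTower.of_algebraMap_eq fun c => (ψB.commutes c).symm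
  let ψP : Polynomial B →ₐ[k] A := (Polynomial.aeval (v j)).restrictScalars k
  let Ψ : L →ₐ[k] A := IsLocalization.liftAlgHom (M := Submonoid.powers (Polynomial.X : Polynomial B)) (f := ψP) (by
    rintro ⟨_, m, rfl⟩
    rw [map_pow]
    refine IsUnit.pow m ?_
    change IsUnit (Polynomial.aeval (v j) (Polynomial.X : Polynomial B))
    rw [Polynomial.aeval_X]
    exact IsUnit.of_mul_eq_one w hw)
  have hΨB : ∀ z, Ψ (algebraMap B L (Ideal.Quotient.mk _ z)) = ψ₀ z := fun z => by
    rw [IsScalarTower.algebraMap_apply B (Polynomial B) L, IsLocalization.liftAlgHom_apply, IsLocalization.lift_eq]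
    exact Polynomial.aeval_C _ _
  have hΨτ : Ψ τ = v j := by
    rw [show τ = algebraMap (Polynomial B) L (Polynomial.X : Polynomial B) from rfl,
      IsLocalization.liftAlgHom_apply, IsLocalization.lift_eq]
    exact Polynomial.aeval_X _
  have h1 : Ψ.comp Φ' = AlgHom.id k A := by
    refine IsLocalization.algHom_ext (Submonoid.powers (Ideal.Quotient.mk J (X j))) ?_
    refine Ideal.Quotient.algHom_ext _ (algHom_ext fun l => ?_)
    show Ψ (Φ' (algebraMap (𝕊 ⧸ J) A (Ideal.Quotient.mk J (X l)))) = _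
    rw [hΦ', show Φ (X l) = τ * q l from aeval_X _ _, map_mul, hΨτ]
    show v j * Ψ (algebraMap B L (Ideal.Quotient.mk _ (X l))) = v l
    rw [hΨB, show ψ₀ (X l) = w * v l from aeval_X _ _, ← mul_assoc, hw, one_mul]
  have hwL : Φ' w * τ = 1 := by
    have h := congrArg Φ' hw
    rw [map_mul, map_one, hΦ', show Φ (X j) = τ * q j from aeval_X _ _, hqj, mul_one, mul_comm] at h
    exact h
  have h2 : Φ'.comp Ψ = AlgHom.id k L := by
    refine IsLocalization.algHom_ext (Submonoid.powers (Polynomial.X : Polynomial B)) ?_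
    refine Polynomial.algHom_ext' ?_ ?_
    · refine Ideal.Quotient.algHom_ext _ (algHom_ext fun l => ?_)
      rw [AlgHom.comp_apply, AlgHom.comp_apply, AlgHom.comp_apply, AlgHom.comp_apply, AlgHom.comp_apply, AlgHom.comp_apply,
        AlgHom.comp_apply, AlgHom.id_apply]
      change Φ' (Ψ (algebraMap (Polynomial B) L (Polynomial.C (Ideal.Quotient.mk _ (X l))))) =
        algebraMap (Polynomial B) L (Polynomial.C (Ideal.Quotient.mk _ (X l)))
      rw [show algebraMap (Polynomial B) L (Polynomial.C (Ideal.Quotient.mk _ (X l))) = q l from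
        (IsScalarTower.algebraMap_apply B (Polynomial B) L _).symm]
      rw [show Ψ (q l) = ψ₀ (X l) from hΨB _, show ψ₀ (X l) = w * v l from aeval_X _ _, map_mul,
        show Φ' (v l) = Φ (X l) from hΦ' _, show Φ (X l) = τ * q l from aeval_X _ _, ← mul_assoc, hwL, one_mul]
    · show Φ' (Ψ τ) = τ
      rw [hΨτ, show Φ' (v j) = Φ (X j) from hΦ' _, show Φ (X j) = τ * q j from aeval_X _ _, hqj, mul_one]
  exact Algebra.FormallySmooth.of_equiv (AlgEquiv.ofAlgHom Ψ Φ' h1 h2)

theorem isRegular_cone {r : ℕ} (f : Fin r → 𝕊) (d : Fin r → ℕ) (hf : ∀ i, (f i).IsHomogeneous (d i))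
    (hsm : ∀ j, Algebra.FormallySmooth k (𝕊 ⧸ chartIdeal (Ideal.span (Set.range f)) j))
    (Q : Ideal (𝕊 ⧸ Ideal.span (Set.range f))) [Q.IsPrime]
    (hQ : ∃ j, Ideal.Quotient.mk (Ideal.span (Set.range f)) (X j) ∉ Q) :
    IsRegularLocalRing (Localization.AtPrime Q) := by
  obtain ⟨j, hj⟩ := hQ
  haveI := hsm j
  haveI := formallySmooth_away f d hf j
  haveI : Algebra.FinitePresentation k (𝕊 ⧸ Ideal.span (Set.range f)) :=
    Algebra.FinitePresentation.of_finiteType.1 inferInstance
  haveI := IsLocalization.Away.finitePresentation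
    (S := Localization.Away (Ideal.Quotient.mk (Ideal.span (Set.range f)) (X j)))
    (Ideal.Quotient.mk (Ideal.span (Set.range f)) (X j))
  exact Omega.RankDim.isRegularLocalRing_of_isSmoothAt k _ Q
    ((Algebra.basicOpen_subset_smoothLocus_iff_smooth (f := Ideal.Quotient.mk (Ideal.span (Set.range f)) (X j))).2
      ⟨inferInstance, Algebra.FinitePresentation.trans k (𝕊 ⧸ Ideal.span (Set.range f)) _⟩
      (show (⟨Q, inferInstance⟩ : PrimeSpectrum _) ∈ PrimeSpectrum.basicOpen _ from hj))

/-- General forms of prescribed degrees give smooth complete intersections. -/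
theorem exists_general_forms [Infinite k] : ∀ (r : ℕ), r ≤ n → ∀ (d : Fin r → ℕ), (∀ i, 0 < d i) →
    ∃ f : Fin r → 𝕊, (∀ i, (f i).IsHomogeneous (d i)) ∧
      (∀ i j, Algebra.FormallySmooth k (𝕊 ⧸ chartIdeal (Ideal.span {f i}) j)) ∧
      (∀ j, Algebra.FormallySmooth k (𝕊 ⧸ chartIdeal (Ideal.span (Set.range f)) j)) ∧
      ∀ P : Ideal 𝕊, P.IsPrime → Ideal.span (Set.range f) ≤ P → (r : ℕ∞) ≤ P.height := by
  classical
  intro r
  induction r with
  | zero =>
    intro _ d _
    refine ⟨Fin.elim0, fun i => i.elim0, fun i => i.elim0, fun j => ?_, fun _ _ _ => zero_le⟩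
    rw [Set.range_eq_empty, Ideal.span_empty]
    exact formallySmooth_chart_bot j
  | succ r ih =>
    intro hr d hd
    obtain ⟨f, hf, hhyp, hci, hht⟩ := ih (by omega) (fun i => d i.castSucc) fun i => hd _
    set J := Ideal.span (Set.range f)
    set e := d (Fin.last r)
    have he : 0 < e := hd _
    choose g₁ hg₁ hb₁ using fun j => exists_smooth_chart_poly J j he (hci j)
    choose g₂ hg₂ hb₂ using fun j => exists_smooth_chart_poly (⊥ : Ideal 𝕊) j he (formallySmooth_chart_bot j)
    have hfin : J.minimalPrimes.Finite := Ideal.finite_minimalPrimes_of_isNoetherianRing _ J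
    have hmiss : ∀ P ∈ J.minimalPrimes, ∃ l, X l ∉ P := by
      intro P hP
      haveI := hP.1.1
      by_contra hall
      push Not at hall
      have hle : RingHom.ker (constantCoeff (R := k) (σ := Fin (n + 1))) ≤ P := by
        rw [S10903.ker_constantCoeff_eq]
        exact Ideal.span_le.2 (Set.range_subset_iff.2 hall)
      have h1 := (S10903.le_height_ker_constantCoeff k (n + 1)).trans ((Ideal.height_mono hle).trans
        (Ideal.height_le_card_of_mem_minimalPrimes_span (Set.finite_range f) hP))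
      have h2 : n + 1 ≤ (Set.range f).ncard := by exact_mod_cast h1
      have h3 : (Set.range f).ncard ≤ r := by
        rw [← Set.image_univ]
        exact (Set.ncard_image_le Set.finite_univ).trans (by simp)
      omega
    have hg₃ : ∀ P ∈ J.minimalPrimes, ∃ g : MvPolynomial (Fin e → Fin (n + 1)) k, g ≠ 0 ∧
        ∀ b, eval b g ≠ 0 → form e b ∉ P := fun P hP => by
      haveI := hP.1.1
      obtain ⟨l, hl⟩ := hmiss P hP
      exact exists_avoid_poly P l hl e
    choose! g₃ hg₃ hb₃ using hg₃
    obtain ⟨b, hb⟩ : ∃ b, eval b ((∏ j, g₁ j) * (∏ j, g₂ j) * ∏ P ∈ hfin.toFinset, g₃ P) ≠ 0 := by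
      by_contra hall
      push Not at hall
      have hne : ((∏ j, g₁ j) * (∏ j, g₂ j) * ∏ P ∈ hfin.toFinset, g₃ P) ≠ 0 :=
        mul_ne_zero (mul_ne_zero (Finset.prod_ne_zero_iff.2 fun j _ => hg₁ j)
          (Finset.prod_ne_zero_iff.2 fun j _ => hg₂ j))
          (Finset.prod_ne_zero_iff.2 fun P hP => hg₃ P (hfin.mem_toFinset.1 hP))
      refine hne (MvPolynomial.funext fun b => ?_)
      rw [hall b, map_zero]
    rw [map_mul, map_mul, map_prod, map_prod, map_prod, mul_ne_zero_iff, mul_ne_zero_iff,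
      Finset.prod_ne_zero_iff, Finset.prod_ne_zero_iff, Finset.prod_ne_zero_iff] at hb
    obtain ⟨⟨hbA, hbB⟩, hbC⟩ := hb
    let F := form e b
    have hrange : Ideal.span (Set.range (Fin.snoc f F : Fin (r + 1) → 𝕊)) = J ⊔ Ideal.span {F} := by
      rw [← Ideal.span_union]
      congr 1
      rw [Fin.range_snoc, Set.union_comm, Set.singleton_union]
    refine ⟨Fin.snoc f F, ?_, ?_, fun j => ?_, fun P hP hle => ?_⟩
    · intro i
      induction i using Fin.lastCases with
      | last => rw [Fin.snoc_last]; exact form_isHomogeneous e b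
      | cast i => rw [Fin.snoc_castSucc]; exact hf i
    · intro i j
      induction i using Fin.lastCases with
      | last =>
        rw [Fin.snoc_last]
        have := hb₂ j b (hbB j (Finset.mem_univ _))
        rwa [bot_sup_eq] at this
      | cast i => rw [Fin.snoc_castSucc]; exact hhyp i j
    · rw [hrange]; exact hb₁ j b (hbA j (Finset.mem_univ _))
    · rw [hrange, sup_le_iff] at hle
      haveI := hP
      obtain ⟨p, hp, hpP⟩ := Ideal.exists_minimalPrimes_le hle.1
      haveI := hp.1.1
      have hlt : p < P := lt_of_le_of_ne hpP fun h => hb₃ p hp b (hbC p (hfin.mem_toFinset.2 hp))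
        (h ▸ hle.2 (Ideal.mem_span_singleton_self F))
      refine le_trans ?_ (Ideal.height_add_one_le_of_lt_of_isPrime hlt)
      push_cast
      exact add_le_add_left (hht p hp.1.1 hp.1.2) 1

end Groth.Agent.BertiniPn
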