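import Groth.Agent.BertiniPn.Jets
import Mathlib.RingTheory.Smooth.Field
import Mathlib.FieldTheory.Perfect

/-!
# Bertini in characteristic zero for base point free systems
-/

set_option autoImplicit false

universe u v

open TensorProduct

noncomputable section

namespace Groth.Agent.BertiniPn

variable {k : Type u} [Field k] {A : Type u} [CommRing A] [Algebra k A] [Algebra.FiniteType k A]
variable {M : Type u} [AddCommGroup M] [Module A M] [Module.Finite A M]
variable {m : ℕ} (v₀ : M) (v : Fin m → M)

/-- General combinations vanish nowhere. -/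
theorem exists_poly_nonvanishing_charZero [Module.Projective A M] (hdep : ∀ (L : Type u) [Field L] [Algebra k L] [Algebra A L] [IsScalarTower k A L] [Algebra.EssFiniteType k L]
      (α : Fin m → L), (1 : L) ⊗ₜ[A] v₀ + ∑ i : Fin m, α i ⊗ₜ[A] v i = 0 → ¬ AlgebraicIndependent k α) :
    ∃ g : MvPolynomial (Fin m) k, g ≠ 0 ∧ ∀ c : Fin m → k, MvPolynomial.eval c g ≠ 0 →
      ∀ (P : Ideal A) [P.IsPrime],
        (1 : P.ResidueField) ⊗ₜ[A] (v₀ + ∑ i, algebraMap k A (c i) • v i) ≠ 0 := by
  classical
  haveI : IsNoetherianRing A := Algebra.FiniteType.isNoetherianRing k A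
  obtain ⟨N, π, hπ⟩ := Module.Finite.exists_fin' A M
  obtain ⟨ι, hι⟩ := Module.projective_lifting_property π LinearMap.id hπ
  let C : Fin N → MvPolynomial (Fin m) A := fun l =>
    MvPolynomial.C (ι v₀ l) + ∑ i : Fin m, MvPolynomial.X i * MvPolynomial.C (ι (v i) l)
  let I : Ideal (MvPolynomial (Fin m) A) := Ideal.span (Set.range C)
  have hfin : I.minimalPrimes.Finite := Ideal.finite_minimalPrimes_of_isNoetherianRing _ I
  have hker : ∀ Q ∈ I.minimalPrimes, ∃ g : MvPolynomial (Fin m) k, g ≠ 0 ∧
      MvPolynomial.map (algebraMap k A) g ∈ Q := by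
    intro Q hQ
    haveI : Q.IsPrime := hQ.1.1
    have hψ : ∀ z, algebraMap A Q.ResidueField z =
        algebraMap (MvPolynomial (Fin m) A) Q.ResidueField (MvPolynomial.C z) := fun z =>
      IsScalarTower.algebraMap_apply A (MvPolynomial (Fin m) A) Q.ResidueField z
    let α : Fin m → Q.ResidueField := fun j =>
      algebraMap (MvPolynomial (Fin m) A) Q.ResidueField (MvPolynomial.X j)
    have hmem : ∀ p ∈ I, algebraMap (MvPolynomial (Fin m) A) Q.ResidueField p = 0 := fun p hp =>
      Ideal.algebraMap_residueField_eq_zero.2 (hQ.1.2 hp)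
    have h1 : (1 : Q.ResidueField) ⊗ₜ[A] v₀ + ∑ i : Fin m, α i ⊗ₜ[A] v i = 0 := by
      have h2 : ∀ z, (π.comp ι).lTensor Q.ResidueField z = z := fun z => by rw [hι, LinearMap.lTensor_id]; rfl
      rw [← h2 (_ + _), LinearMap.lTensor_comp, LinearMap.comp_apply]
      refine (congrArg _ ?_).trans (map_zero _)
      rw [map_add, map_sum]
      simp only [LinearMap.lTensor_tmul]
      have h3 : ∀ (a : Q.ResidueField) (z : Fin N → A),
          a ⊗ₜ[A] z = ∑ l, (z l • a) ⊗ₜ[A] (Pi.single l 1 : Fin N → A) := fun a z => by
        conv_lhs => rw [pi_eq_sum_univ' z, tmul_sum]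
        exact Finset.sum_congr rfl fun l _ => (TensorProduct.smul_tmul (z l) a _).symm
      rw [h3, Finset.sum_congr rfl fun i _ => h3 (α i) (ι (v i)), Finset.sum_comm, ← Finset.sum_add_distrib]
      refine Finset.sum_eq_zero fun l _ => ?_
      rw [← sum_tmul, ← add_tmul]
      refine Eq.trans (congrArg (· ⊗ₜ[A] _) ?_) (zero_tmul _ _)
      refine Eq.trans ?_ (hmem (C l) (Ideal.subset_span ⟨l, rfl⟩))
      simp [C, α, hψ, Algebra.smul_def, mul_comm]
    haveI : Algebra.EssFiniteType k Q.ResidueField :=
      Algebra.EssFiniteType.comp k (MvPolynomial (Fin m) A) Q.ResidueField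
    have hdep := hdep Q.ResidueField α h1
    rw [algebraicIndependent_iff] at hdep
    push Not at hdep
    obtain ⟨g, hg, hg0⟩ := hdep
    refine ⟨g, hg0, Ideal.algebraMap_residueField_eq_zero.1 ?_⟩
    refine Eq.trans ?_ hg
    have h3 : ((algebraMap (MvPolynomial (Fin m) A) Q.ResidueField).comp (MvPolynomial.map (algebraMap k A)) :
        MvPolynomial (Fin m) k →+* Q.ResidueField) = (MvPolynomial.aeval α).toRingHom :=
      MvPolynomial.ringHom_ext (fun r => by simp [← hψ, ← IsScalarTower.algebraMap_apply]) (fun j => by simp [α])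
    exact RingHom.congr_fun h3 g
  choose! g hg0 hgQ using hker
  refine ⟨∏ Q ∈ hfin.toFinset, g Q, Finset.prod_ne_zero_iff.2 fun Q hQ => hg0 Q (hfin.mem_toFinset.1 hQ),
    fun a ha P _ hd => ?_⟩
  let ε : MvPolynomial (Fin m) A →+* P.ResidueField :=
    MvPolynomial.eval₂Hom (algebraMap A P.ResidueField) fun j => algebraMap k P.ResidueField (a j)
  have hI : I ≤ RingHom.ker ε := by
    refine Ideal.span_le.2 ?_
    rintro _ ⟨l, rfl⟩
    have h2 := congrArg (fun z => TensorProduct.piScalarRight A A P.ResidueField (Fin N) (ι.lTensor P.ResidueField z) l) hd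
    simp only [LinearMap.lTensor_tmul, TensorProduct.piScalarRight_apply, TensorProduct.piScalarRightHom_tmul,
      map_zero, Pi.zero_apply] at h2
    refine Eq.trans ?_ h2
    simp [ε, C, map_sum, Algebra.smul_def, ← IsScalarTower.algebraMap_apply, Finset.sum_apply, Pi.mul_apply]
  haveI : (RingHom.ker ε).IsPrime := RingHom.ker_isPrime _
  obtain ⟨Q, hQ, hQle⟩ := Ideal.exists_minimalPrimes_le hI
  have h3 : ε (MvPolynomial.map (algebraMap k A) (g Q)) = algebraMap k P.ResidueField (MvPolynomial.eval a (g Q)) := by
    have : (ε.comp (MvPolynomial.map (algebraMap k A)) : MvPolynomial (Fin m) k →+* P.ResidueField) =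
        (algebraMap k P.ResidueField).comp (MvPolynomial.eval a) :=
      MvPolynomial.ringHom_ext (fun r => by simp [ε, ← IsScalarTower.algebraMap_apply]) (fun j => by simp [ε])
    exact RingHom.congr_fun this (g Q)
  have h4 : MvPolynomial.eval a (g Q) = 0 :=
    (algebraMap k P.ResidueField).injective (by rw [map_zero, ← h3]; exact hQle (hgQ Q hQ))
  refine ha ?_
  rw [map_prod]
  exact Finset.prod_eq_zero (hfin.mem_toFinset.2 hQ) h4

variable [CharZero k]

/-- In characteristic zero derivations of `k(α)` extend, so `h = dh = 0` forces all `x i = 0`. -/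
theorem not_algebraicIndependent_charZero (x : Fin m → A) (hx : Ideal.span (Set.range x) = ⊤)
    (L : Type u) [Field L] [Algebra k L] [Algebra A L] [IsScalarTower k A L] [Algebra.EssFiniteType k L]
    (α : Fin m → L) (h0 : ∑ i, α i * algebraMap A L (x i) = 0)
    (h1 : ∑ i, α i ⊗ₜ[A] KaehlerDifferential.D k A (x i) = 0) : ¬ AlgebraicIndependent k α := by
  classical
  intro hind
  let R := MvPolynomial (Fin m) k
  letI : Algebra R L := (MvPolynomial.aeval α).toRingHom.toAlgebra
  haveI : IsScalarTower k R L := IsScalarTower.of_algebraMap_eq fun c => ((MvPolynomial.aeval α).commutes c).symm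
  have hinj : Function.Injective (algebraMap R L) := hind
  letI : Algebra (FractionRing R) L := (IsFractionRing.lift hinj : FractionRing R →+* L).toAlgebra
  haveI : IsScalarTower R (FractionRing R) L :=
    IsScalarTower.of_algebraMap_eq fun r => (IsFractionRing.lift_algebraMap hinj r).symm
  haveI : IsScalarTower k (FractionRing R) L := IsScalarTower.of_algebraMap_eq fun c => by
    rw [IsScalarTower.algebraMap_apply k R (FractionRing R), ← IsScalarTower.algebraMap_apply R (FractionRing R) L,
      ← IsScalarTower.algebraMap_apply k R L]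
  haveI : CharZero (FractionRing R) := charZero_of_injective_algebraMap (algebraMap k (FractionRing R)).injective
  haveI : Algebra.EssFiniteType (FractionRing R) L := Algebra.EssFiniteType.of_comp k (FractionRing R) L
  haveI : Algebra.FormallySmooth (FractionRing R) L := inferInstance
  haveI : Algebra.FormallySmooth R (FractionRing R) :=
    Algebra.FormallySmooth.of_isLocalization (nonZeroDivisors R)
  haveI : Algebra.FormallySmooth R L := Algebra.FormallySmooth.comp R (FractionRing R) L
  have hmb : Function.Injective (KaehlerDifferential.mapBaseChange k R L) := by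
    rw [← LinearMap.ker_eq_bot, (Algebra.H1Cotangent.exact_δ_mapBaseChange k R L).linearMap_ker_eq,
      Subsingleton.elim (Algebra.H1Cotangent.δ k R L) 0, LinearMap.range_zero]
  obtain ⟨ret, hret⟩ := (KaehlerDifferential.mapBaseChange k R L).exists_leftInverse_of_injective
    (LinearMap.ker_eq_bot.2 hmb)
  have hzero : ∀ j, algebraMap A L (x j) = 0 := by
    intro j
    let d : Derivation k R L := MvPolynomial.mkDerivation k (Pi.single j 1)
    let ev : Ω[L⁄k] →ₗ[L] L := (d.liftKaehlerDifferential.liftBaseChange L) ∘ₗ ret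
    let δ : Derivation k L L := ev.compDer (KaehlerDifferential.D k L)
    have hδ : ∀ i, δ (α i) = (Pi.single j 1 : Fin m → L) i := by
      intro i
      have e : KaehlerDifferential.D k L (α i) =
          KaehlerDifferential.mapBaseChange k R L (1 ⊗ₜ KaehlerDifferential.D k R (MvPolynomial.X i)) := by
        rw [KaehlerDifferential.mapBaseChange_tmul, one_smul, KaehlerDifferential.map_D]
        exact congrArg _ (MvPolynomial.aeval_X α i).symm
      show (d.liftKaehlerDifferential.liftBaseChange L) (ret (KaehlerDifferential.D k L (α i))) = _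
      rw [e, ← LinearMap.comp_apply ret, hret, LinearMap.id_apply, LinearMap.liftBaseChange_tmul, one_smul,
        Derivation.liftKaehlerDifferential_comp_D, MvPolynomial.mkDerivation_X]
    have hdA : ∑ i, α i * δ (algebraMap A L (x i)) = 0 := by
      have h2 := congrArg ((δ.compAlgebraMap A).liftKaehlerDifferential.liftBaseChange L) h1
      rw [map_sum, map_zero] at h2
      refine Eq.trans (Finset.sum_congr rfl fun i _ => ?_) h2
      rw [LinearMap.liftBaseChange_tmul, Derivation.liftKaehlerDifferential_comp_D]
      rfl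
    have h3 := congrArg δ h0
    rw [map_sum, map_zero] at h3
    simp only [Derivation.leibniz, smul_eq_mul, hδ, Finset.sum_add_distrib] at h3
    rw [hdA, zero_add, Finset.sum_eq_single j] at h3
    · simpa using h3
    · intro i _ hi; simp [hi]
    · intro h; exact absurd (Finset.mem_univ j) h
  have hle : Ideal.span (Set.range x) ≤ RingHom.ker (algebraMap A L) :=
    Ideal.span_le.2 (Set.range_subset_iff.2 hzero)
  rw [hx, top_le_iff] at hle
  exact RingHom.ker_ne_top _ hle

/-- Characteristic zero Bertini: general combinations of functions generating the unit ideal cut smoothly. -/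
theorem exists_smooth_poly_charZero [Algebra.FormallySmooth k A] (x : Fin m → A)
    (hx : Ideal.span (Set.range x) = ⊤) :
    ∃ g : MvPolynomial (Fin m) k, g ≠ 0 ∧ ∀ c : Fin m → k, MvPolynomial.eval c g ≠ 0 →
      Algebra.FormallySmooth k (A ⧸ Ideal.span {∑ i, algebraMap k A (c i) * x i}) := by
  obtain ⟨g, hg0, hg⟩ := exists_poly_nonvanishing_charZero (k := k) (A := A) (M := A × Ω[A⁄k])
    (0 : A × Ω[A⁄k]) (fun i => (x i, KaehlerDifferential.D k A (x i))) (fun L _ _ _ _ _ α h => by
      rw [tmul_zero, zero_add] at h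
      have h' := congrArg (TensorProduct.prodRight A L L A Ω[A⁄k]) h
      simp only [map_sum, map_zero, TensorProduct.prodRight_tmul] at h'
      have h'0 := congrArg (fun z => TensorProduct.AlgebraTensorModule.rid A L L z.1) h'
      simp only [Prod.fst_sum, map_sum, Prod.fst_zero, map_zero, TensorProduct.AlgebraTensorModule.rid_tmul] at h'0
      refine not_algebraicIndependent_charZero x hx L α ?_ ?_
      · refine Eq.trans (Finset.sum_congr rfl fun i _ => ?_) h'0
        rw [Algebra.smul_def, mul_comm]
      · have h'1 := congrArg Prod.snd h'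
        rw [Prod.snd_sum] at h'1
        exact h'1)
  refine ⟨g, hg0, fun c hc => formallySmooth_quotient _ fun P _ hP h0 => hg c hc P ?_⟩
  set h := ∑ i, algebraMap k A (c i) * x i with hh
  have hv : (0 : A × Ω[A⁄k]) +
      ∑ i, algebraMap k A (c i) • (x i, KaehlerDifferential.D k A (x i)) = (h, KaehlerDifferential.D k A h) := by
    rw [hh]; ext <;> simp [Prod.fst_sum, Prod.snd_sum, Derivation.leibniz] <;> simp [Algebra.smul_def]
  rw [hv]
  refine (TensorProduct.prodRight A P.ResidueField P.ResidueField A Ω[A⁄k]).injective ?_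
  rw [TensorProduct.prodRight_tmul, map_zero, h0]
  refine Prod.ext ?_ rfl
  show (1 : P.ResidueField) ⊗ₜ[A] h = 0
  rw [← mul_one h, ← smul_eq_mul, ← TensorProduct.smul_tmul, Algebra.smul_def, mul_one,
    Ideal.algebraMap_residueField_eq_zero.2 hP, zero_tmul]

end Groth.Agent.BertiniPn
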