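import Groth.Agent.BertiniPn.Basic

/-!
# Bertini for sections separating first order jets

* `exists_poly_nonvanishing`: a general combination of generators of a module of rank > trdeg at every prime vanishes nowhere.
* `exists_smooth_poly_jets`: if values and differentials of the `x i` generate `A × Ω`, then for general `c` the
  zero locus of `φ + ∑ c i * x i` is smooth.
-/

set_option autoImplicit false

universe u v

open TensorProduct

noncomputable section

namespace Groth.Agent.BertiniPn

variable {k : Type u} [Field k] {A : Type u} [CommRing A] [Algebra k A] [Algebra.FiniteType k A]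
variable {M : Type u} [AddCommGroup M] [Module A M] [Module.Finite A M]
variable {m : ℕ} (v₀ : M) (v : Fin m → M)

/-- Coefficients of a vanishing combination are algebraically dependent. -/
theorem not_algebraicIndependent_jets (hspan : Submodule.span A (Set.range v) = ⊤)
    (hrank : ∀ (P : Ideal A) [P.IsPrime] (t : ℕ), Algebra.trdeg k P.ResidueField = t →
      t + 1 ≤ Module.finrank P.ResidueField (P.ResidueField ⊗[A] M))
    {L : Type u} [Field L] [Algebra k L] [Algebra A L] [IsScalarTower k A L] (α : Fin m → L)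
    (h1 : (1 : L) ⊗ₜ[A] v₀ + ∑ i : Fin m, α i ⊗ₜ[A] v i = 0) :
    ¬ AlgebraicIndependent k α := by
  classical
  intro hind
  let P := RingHom.ker (algebraMap A L)
  haveI : P.IsPrime := RingHom.ker_isPrime _
  let F := P.ResidueField
  let φ : F →ₐ[k] L := Ideal.ResidueField.liftₐ P (IsScalarTower.toAlgHom k A L) le_rfl
    fun a ha => isUnit_iff_ne_zero.2 fun h => ha h
  letI : Algebra F L := φ.toRingHom.toAlgebra
  haveI : IsScalarTower A F L := IsScalarTower.of_algebraMap_eq fun a =>
    (Ideal.ResidueField.liftₐ_algebraMap P (IsScalarTower.toAlgHom k A L) le_rfl _ a).symm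
  haveI : IsScalarTower k F L := IsScalarTower.of_algebraMap_eq fun c => (φ.commutes c).symm
  let w : Fin m → F ⊗[A] M := fun i => (1 : F) ⊗ₜ v i
  have hw : Submodule.span F (Set.range w) = ⊤ := by
    refine top_unique fun t _ => ?_
    induction t using TensorProduct.induction_on with
    | zero => exact zero_mem _
    | add a b ha hb => exact add_mem (ha Submodule.mem_top) (hb Submodule.mem_top)
    | tmul c z =>
      obtain ⟨r, rfl⟩ := (Submodule.mem_span_range_iff_exists_fun A).1 (hspan.ge (Submodule.mem_top (x := z)))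
      rw [tmul_sum]
      refine Submodule.sum_mem _ fun i _ => ?_
      rw [show c ⊗ₜ[A] (r i • v i) = (r i • c) • w i by
        rw [smul_tmul', smul_eq_mul, mul_one, smul_tmul]]
      exact Submodule.smul_mem _ _ (Submodule.subset_span ⟨i, rfl⟩)
  set ρ := Module.finrank F (F ⊗[A] M) with hρ
  obtain ⟨f, hf, hfspan, hfli⟩ := Submodule.exists_fun_fin_finrank_span_eq F (Set.range w)
  replace hfspan := hfspan.trans hw
  choose e he using hf
  have heinj : Function.Injective e := fun a b hab => hfli.injective (by rw [← he a, ← he b, hab])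
  have hcard : Module.finrank F (Submodule.span F (Set.range w)) = ρ := by rw [hw, finrank_top]
  let b : Module.Basis _ F (F ⊗[A] M) := Module.Basis.mk hfli hfspan.ge
  let bL := (b.baseChange L).map (AlgebraTensorModule.cancelBaseChange A F L L M)
  let T := {j : Fin m // j ∉ Set.range e}
  have hrepr : ∀ z i, bL.repr ((1 : L) ⊗ₜ z) i = algebraMap F L (b.repr ((1 : F) ⊗ₜ z) i) := by
    intro z i
    have : (AlgebraTensorModule.cancelBaseChange A F L L M).symm ((1 : L) ⊗ₜ z) =
        (1 : L) ⊗ₜ[F] ((1 : F) ⊗ₜ z) := by simp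
    simp only [bL, Module.Basis.map_repr, LinearEquiv.trans_apply, this]
    rw [Module.Basis.baseChange_repr_tmul, Algebra.smul_def, mul_one]
  have hzero : ∀ i, algebraMap F L (b.repr ((1 : F) ⊗ₜ v₀) i) + ∑ j, α j * algebraMap F L (b.repr (w j) i) = 0 := by
    intro i
    have h2 := congrArg (fun z => bL.repr z i) h1
    simp only [map_zero, Finsupp.coe_zero, Pi.zero_apply] at h2
    rw [map_add, map_sum, Finsupp.add_apply, Finsupp.finsetSum_apply, hrepr] at h2
    refine Eq.trans (congrArg _ (Finset.sum_congr rfl fun j _ => ?_)) h2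
    rw [show α j ⊗ₜ[A] v j = α j • ((1 : L) ⊗ₜ[A] v j) by rw [smul_tmul', smul_eq_mul, mul_one],
      map_smul, Finsupp.smul_apply, smul_eq_mul, hrepr]
  let R : Subalgebra F L := (MvPolynomial.aeval (R := F) fun j : T => α j.1).range
  have hT : ∀ j : Fin m, j ∉ Set.range e → α j ∈ R := fun j hj =>
    ⟨MvPolynomial.X ⟨j, hj⟩, MvPolynomial.aeval_X _ _⟩
  have hS : ∀ i, α (e i) ∈ R := by
    intro i
    have h2 := hzero i
    rw [← Finset.sum_filter_add_sum_filter_not Finset.univ (fun j => j ∈ Set.range e)] at h2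
    have h3 : ∑ j ∈ Finset.univ.filter (fun j => j ∈ Set.range e), α j * algebraMap F L (b.repr (w j) i) =
        α (e i) := by
      rw [Finset.sum_eq_single (e i)]
      · rw [show w (e i) = b i by rw [he, Module.Basis.mk_apply], Module.Basis.repr_self, Finsupp.single_eq_same,
          map_one, mul_one]
      · intro j hj hne
        obtain ⟨i', rfl⟩ := (Finset.mem_filter.1 hj).2
        rw [show w (e i') = b i' by rw [he, Module.Basis.mk_apply], Module.Basis.repr_self,
          Finsupp.single_eq_of_ne (fun h => hne (by rw [h])), map_zero, mul_zero]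
      · intro h
        exact absurd (Finset.mem_filter.2 ⟨Finset.mem_univ _, Set.mem_range_self i⟩) h
    rw [h3, add_left_comm] at h2
    rw [eq_neg_of_add_eq_zero_left h2]
    refine neg_mem (add_mem (R.algebraMap_mem _) (sum_mem fun j hj => ?_))
    exact mul_mem (hT j (Finset.mem_filter.1 hj).2) (R.algebraMap_mem _)
  have hall : ∀ j : Fin m, α j ∈ R := fun j => by
    by_cases hj : j ∈ Set.range e
    · obtain ⟨i, rfl⟩ := hj; exact hS i
    · exact hT j hj
  obtain ⟨t, ht⟩ := Omega.RankDim.exists_trdeg_eq k P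
  have htρ : t + 1 ≤ ρ := hrank P t ht
  have hρT : ρ + Fintype.card T = m := by
    rw [Fintype.card_subtype_compl, Fintype.card_fin,
      show Fintype.card {j // j ∈ Set.range e} = ρ from
        ((Set.card_range_of_injective heinj).trans (Fintype.card_fin _)).trans hcard]
    have : ρ ≤ m := by
      rw [← hcard]
      exact (finrank_range_le_card w).trans_eq (Fintype.card_fin m)
    omega
  let π : MvPolynomial T F →ₐ[k] (R.restrictScalars k) :=
    ((MvPolynomial.aeval (R := F) fun j : T => α j.1).rangeRestrict).restrictScalars k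
  have hπ : Function.Surjective π := (MvPolynomial.aeval (R := F) fun j : T => α j.1).rangeRestrict_surjective
  have hind' : AlgebraicIndependent k (fun j => (⟨α j, hall j⟩ : R.restrictScalars k)) :=
    AlgebraicIndependent.of_comp (R.restrictScalars k).val hind
  have h5 := hind'.lift_cardinalMk_le_trdeg
  have h6 : Algebra.trdeg k (R.restrictScalars k) ≤ ((t + Fintype.card T : ℕ) : Cardinal) := by
    refine (trdeg_le_of_surjective π hπ).trans_eq ?_
    rw [← trdeg_add_eq k F (A := MvPolynomial T F), ht, MvPolynomial.trdeg_of_isDomain, Cardinal.mk_fintype]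
    simp
  have h7 : ((m : ℕ) : Cardinal.{u}) ≤ ((t + Fintype.card T : ℕ) : Cardinal) := by
    refine le_trans ?_ h6
    simpa using h5
  have := Nat.cast_le.1 h7
  omega

/-- General combinations vanish nowhere. -/
theorem exists_poly_nonvanishing [Module.Projective A M] (hspan : Submodule.span A (Set.range v) = ⊤)
    (hrank : ∀ (P : Ideal A) [P.IsPrime] (t : ℕ), Algebra.trdeg k P.ResidueField = t →
      t + 1 ≤ Module.finrank P.ResidueField (P.ResidueField ⊗[A] M)) :
    ∃ g : MvPolynomial (Fin m) k, g ≠ 0 ∧ ∀ c : Fin m → k, MvPolynomial.eval c g ≠ 0 →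
      ∀ (P : Ideal A) [P.IsPrime],
        (1 : P.ResidueField) ⊗ₜ[A] (v₀ + ∑ i, algebraMap k A (c i) • v i) ≠ 0 := by
  classical
  haveI : IsNoetherianRing A := Algebra.FiniteType.isNoetherianRing k A
  obtain ⟨N, π, hπ⟩ := Module.Finite.exists_fin' A M
  obtain ⟨ι, hι⟩ := Module.projective_lifting_property π LinearMap.id hπ
  let C : Fin N → MvPolynomial (Fin m) A := fun l =>
    MvPolynomial.C (ι v₀ l) + ∑ i : Fin m, MvPolynomial.X i * MvPolynomial.C (ι (v i) l)
  let I : Ideal (MvPolynomial (Fin m) A) := Ideal.span (Set.range C)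
  have hfin : I.minimalPrimes.Finite := Ideal.finite_minimalPrimes_of_isNoetherianRing _ I
  have hker : ∀ Q ∈ I.minimalPrimes, ∃ g : MvPolynomial (Fin m) k, g ≠ 0 ∧
      MvPolynomial.map (algebraMap k A) g ∈ Q := by
    intro Q hQ
    haveI : Q.IsPrime := hQ.1.1
    have hψ : ∀ z, algebraMap A Q.ResidueField z =
        algebraMap (MvPolynomial (Fin m) A) Q.ResidueField (MvPolynomial.C z) := fun z =>
      IsScalarTower.algebraMap_apply A (MvPolynomial (Fin m) A) Q.ResidueField z
    let α : Fin m → Q.ResidueField := fun j =>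
      algebraMap (MvPolynomial (Fin m) A) Q.ResidueField (MvPolynomial.X j)
    have hmem : ∀ p ∈ I, algebraMap (MvPolynomial (Fin m) A) Q.ResidueField p = 0 := fun p hp =>
      Ideal.algebraMap_residueField_eq_zero.2 (hQ.1.2 hp)
    have h1 : (1 : Q.ResidueField) ⊗ₜ[A] v₀ + ∑ i : Fin m, α i ⊗ₜ[A] v i = 0 := by
      have h2 : ∀ z, (π.comp ι).lTensor Q.ResidueField z = z := fun z => by rw [hι, LinearMap.lTensor_id]; rfl
      rw [← h2 (_ + _), LinearMap.lTensor_comp, LinearMap.comp_apply]
      refine (congrArg _ ?_).trans (map_zero _)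
      rw [map_add, map_sum]
      simp only [LinearMap.lTensor_tmul]
      have h3 : ∀ (a : Q.ResidueField) (z : Fin N → A),
          a ⊗ₜ[A] z = ∑ l, (z l • a) ⊗ₜ[A] (Pi.single l 1 : Fin N → A) := fun a z => by
        conv_lhs => rw [pi_eq_sum_univ' z, tmul_sum]
        exact Finset.sum_congr rfl fun l _ => (TensorProduct.smul_tmul (z l) a _).symm
      rw [h3, Finset.sum_congr rfl fun i _ => h3 (α i) (ι (v i)), Finset.sum_comm, ← Finset.sum_add_distrib]
      refine Finset.sum_eq_zero fun l _ => ?_
      rw [← sum_tmul, ← add_tmul]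
      refine Eq.trans (congrArg (· ⊗ₜ[A] _) ?_) (zero_tmul _ _)
      refine Eq.trans ?_ (hmem (C l) (Ideal.subset_span ⟨l, rfl⟩))
      simp [C, α, hψ, Algebra.smul_def, mul_comm]
    have hdep := not_algebraicIndependent_jets (k := k) v₀ v hspan hrank α h1
    rw [algebraicIndependent_iff] at hdep
    push Not at hdep
    obtain ⟨g, hg, hg0⟩ := hdep
    refine ⟨g, hg0, Ideal.algebraMap_residueField_eq_zero.1 ?_⟩
    refine Eq.trans ?_ hg
    have h3 : ((algebraMap (MvPolynomial (Fin m) A) Q.ResidueField).comp (MvPolynomial.map (algebraMap k A)) :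
        MvPolynomial (Fin m) k →+* Q.ResidueField) = (MvPolynomial.aeval α).toRingHom :=
      MvPolynomial.ringHom_ext (fun r => by simp [← hψ, ← IsScalarTower.algebraMap_apply]) (fun j => by simp [α])
    exact RingHom.congr_fun h3 g
  choose! g hg0 hgQ using hker
  refine ⟨∏ Q ∈ hfin.toFinset, g Q, Finset.prod_ne_zero_iff.2 fun Q hQ => hg0 Q (hfin.mem_toFinset.1 hQ),
    fun a ha P _ hd => ?_⟩
  let ε : MvPolynomial (Fin m) A →+* P.ResidueField :=
    MvPolynomial.eval₂Hom (algebraMap A P.ResidueField) fun j => algebraMap k P.ResidueField (a j)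
  have hI : I ≤ RingHom.ker ε := by
    refine Ideal.span_le.2 ?_
    rintro _ ⟨l, rfl⟩
    have h2 := congrArg (fun z => TensorProduct.piScalarRight A A P.ResidueField (Fin N) (ι.lTensor P.ResidueField z) l) hd
    simp only [LinearMap.lTensor_tmul, TensorProduct.piScalarRight_apply, TensorProduct.piScalarRightHom_tmul,
      map_zero, Pi.zero_apply] at h2
    refine Eq.trans ?_ h2
    simp [ε, C, map_sum, Algebra.smul_def, ← IsScalarTower.algebraMap_apply, Finset.sum_apply, Pi.mul_apply]
  haveI : (RingHom.ker ε).IsPrime := RingHom.ker_isPrime _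
  obtain ⟨Q, hQ, hQle⟩ := Ideal.exists_minimalPrimes_le hI
  have h3 : ε (MvPolynomial.map (algebraMap k A) (g Q)) = algebraMap k P.ResidueField (MvPolynomial.eval a (g Q)) := by
    have : (ε.comp (MvPolynomial.map (algebraMap k A)) : MvPolynomial (Fin m) k →+* P.ResidueField) =
        (algebraMap k P.ResidueField).comp (MvPolynomial.eval a) :=
      MvPolynomial.ringHom_ext (fun r => by simp [ε, ← IsScalarTower.algebraMap_apply]) (fun j => by simp [ε])
    exact RingHom.congr_fun this (g Q)
  have h4 : MvPolynomial.eval a (g Q) = 0 :=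
    (algebraMap k P.ResidueField).injective (by rw [map_zero, ← h3]; exact hQle (hgQ Q hQ))
  refine ha ?_
  rw [map_prod]
  exact Finset.prod_eq_zero (hfin.mem_toFinset.2 hQ) h4

/-- If constant combinations of the `x i` reach every function to first order at every maximal ideal,
values and differentials generate `A × Ω`. -/
theorem span_jets_eq_top (x : Fin m → A)
    (hjet : ∀ (P : Ideal A) [P.IsMaximal] (a : A), ∃ c : Fin m → k, (∑ i, algebraMap k A (c i) * x i) - a ∈ P ^ 2) :
    Submodule.span A (Set.range fun i => (x i, KaehlerDifferential.D k A (x i))) = ⊤ := by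
  set W := Submodule.span A (Set.range fun i => (x i, KaehlerDifferential.D k A (x i))) with hW
  have key : ∀ (P : Ideal A) [P.IsMaximal], (⊤ : Submodule A (A × Ω[A⁄k])) ≤ W ⊔ P • ⊤ := by
    intro P hP
    have h1 : ∀ a : A, ((a, KaehlerDifferential.D k A a) : A × Ω[A⁄k]) ∈ W ⊔ P • ⊤ := fun a => by
      obtain ⟨c, hc⟩ := hjet P a
      have hD : ∀ z ∈ P ^ 2, ((z, KaehlerDifferential.D k A z) : A × Ω[A⁄k]) ∈ P • (⊤ : Submodule A (A × Ω[A⁄k])) := by
        intro z hz
        rw [pow_two] at hz
        induction hz using Submodule.mul_induction_on' with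
        | mem_mul_mem p hp q hq =>
          have : ((p * q, KaehlerDifferential.D k A (p * q)) : A × Ω[A⁄k]) =
              p • (q, KaehlerDifferential.D k A q) + q • ((0 : A), KaehlerDifferential.D k A p) := by
            ext <;> simp [Derivation.leibniz]
          rw [this]
          exact add_mem (Submodule.smul_mem_smul hp Submodule.mem_top) (Submodule.smul_mem_smul hq Submodule.mem_top)
        | add p _ q _ hp hq =>
          have : ((p + q, KaehlerDifferential.D k A (p + q)) : A × Ω[A⁄k]) =
              (p, KaehlerDifferential.D k A p) + (q, KaehlerDifferential.D k A q) := by ext <;> simp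
          rw [this]; exact add_mem hp hq
      have : ((a, KaehlerDifferential.D k A a) : A × Ω[A⁄k]) =
          (∑ i, algebraMap k A (c i) • (x i, KaehlerDifferential.D k A (x i))) -
            (((∑ i, algebraMap k A (c i) * x i) - a), KaehlerDifferential.D k A ((∑ i, algebraMap k A (c i) * x i) - a)) := by
        ext <;> simp [Prod.fst_sum, Prod.snd_sum, Derivation.leibniz] <;> simp [Algebra.smul_def]
      rw [this]
      exact sub_mem (Submodule.mem_sup_left (sum_mem fun i _ => Submodule.smul_mem _ _ (Submodule.subset_span ⟨i, rfl⟩)))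
        (Submodule.mem_sup_right (hD _ hc))
    have h2 : ∀ a : A, ((0 : A), KaehlerDifferential.D k A a) ∈ W ⊔ P • ⊤ := fun a => by
      have : ((0 : A), KaehlerDifferential.D k A a) =
          (a, KaehlerDifferential.D k A a) - a • ((1 : A), KaehlerDifferential.D k A (1 : A)) := by
        ext <;> simp
      rw [this]
      exact sub_mem (h1 a) (Submodule.smul_mem _ _ (h1 1))
    have h3 : ∀ w : Ω[A⁄k], ((0 : A), w) ∈ W ⊔ P • ⊤ := fun w => by
      have hle : (⊤ : Submodule A Ω[A⁄k]) ≤ (W ⊔ P • ⊤).comap (LinearMap.inr A A Ω[A⁄k]) := by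
        rw [← KaehlerDifferential.span_range_derivation, Submodule.span_le]
        rintro _ ⟨a, rfl⟩
        exact h2 a
      exact hle Submodule.mem_top
    rintro ⟨a, w⟩ -
    rw [show ((a, w) : A × Ω[A⁄k]) = a • ((1 : A), KaehlerDifferential.D k A (1 : A)) + ((0 : A), w) by ext <;> simp]
    exact add_mem (Submodule.smul_mem _ _ (h1 1)) (h3 w)
  by_contra hne
  haveI : Module.Finite A ((A × Ω[A⁄k]) ⧸ W) := inferInstance
  have hne' : (⊤ : Submodule A ((A × Ω[A⁄k]) ⧸ W)).annihilator ≠ ⊤ := fun e => hne (by
    rw [Submodule.annihilator_eq_top_iff] at e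
    refine eq_top_iff.2 fun b _ => (Submodule.Quotient.mk_eq_zero W).1 ?_
    exact (Submodule.mem_bot A).1 (e ▸ Submodule.mem_top))
  obtain ⟨P, hP, hle⟩ := Ideal.exists_le_maximal _ hne'
  have hq : ∀ z : (A × Ω[A⁄k]) ⧸ W, z ∈ P • (⊤ : Submodule A ((A × Ω[A⁄k]) ⧸ W)) := by
    intro z
    obtain ⟨b, rfl⟩ := Submodule.Quotient.mk_surjective W z
    have h := Submodule.mem_map_of_mem (f := W.mkQ) (key P (Submodule.mem_top (x := b)))
    rwa [Submodule.map_sup, Submodule.mkQ_map_self, bot_sup_eq, Submodule.map_smul'', Submodule.map_top,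
      Submodule.range_mkQ] at h
  obtain ⟨r, hr, hr'⟩ := Submodule.exists_sub_one_mem_and_smul_eq_zero_of_fg_of_le_smul P
    (⊤ : Submodule A ((A × Ω[A⁄k]) ⧸ W)) Module.Finite.fg_top (fun b _ => hq b)
  refine hP.ne_top ((Ideal.eq_top_iff_one _).2 ?_)
  have : r ∈ P := hle (Submodule.mem_annihilator.2 hr')
  simpa using P.sub_mem this hr

/-- Bertini for systems separating first order jets. -/
theorem exists_smooth_poly_jets [Algebra.FormallySmooth k A] (φ : A) (x : Fin m → A)
    (hjet : ∀ (P : Ideal A) [P.IsMaximal] (a : A), ∃ c : Fin m → k, (∑ i, algebraMap k A (c i) * x i) - a ∈ P ^ 2) :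
    ∃ g : MvPolynomial (Fin m) k, g ≠ 0 ∧ ∀ c : Fin m → k, MvPolynomial.eval c g ≠ 0 →
      Algebra.FormallySmooth k (A ⧸ Ideal.span {φ + ∑ i, algebraMap k A (c i) * x i}) := by
  obtain ⟨g, hg0, hg⟩ := exists_poly_nonvanishing (k := k) (A := A) (M := A × Ω[A⁄k])
    (φ, KaehlerDifferential.D k A φ) (fun i => (x i, KaehlerDifferential.D k A (x i))) (span_jets_eq_top x hjet)
    (fun P _ t ht => by
      have htr := Omega.RankDim.trdeg_le_rank k P t ht
      rw [(TensorProduct.prodRight A P.ResidueField P.ResidueField A Ω[A⁄k]).finrank_eq, Module.finrank_prod,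
        (TensorProduct.AlgebraTensorModule.rid A P.ResidueField P.ResidueField).finrank_eq, Module.finrank_self]
      have : Omega.RankDim.rank k P = Module.finrank P.ResidueField (P.ResidueField ⊗[A] Ω[A⁄k]) := rfl
      omega)
  refine ⟨g, hg0, fun c hc => formallySmooth_quotient _ fun P _ hP h0 => hg c hc P ?_⟩
  set h := φ + ∑ i, algebraMap k A (c i) * x i with hh
  have hv : ((φ, KaehlerDifferential.D k A φ) : A × Ω[A⁄k]) +
      ∑ i, algebraMap k A (c i) • (x i, KaehlerDifferential.D k A (x i)) = (h, KaehlerDifferential.D k A h) := by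
    rw [hh]; ext <;> simp [Prod.fst_sum, Prod.snd_sum, Derivation.leibniz] <;> simp [Algebra.smul_def]
  rw [hv]
  refine (TensorProduct.prodRight A P.ResidueField P.ResidueField A Ω[A⁄k]).injective ?_
  rw [TensorProduct.prodRight_tmul, map_zero, h0]
  refine Prod.ext ?_ rfl
  show (1 : P.ResidueField) ⊗ₜ[A] h = 0
  rw [← mul_one h, ← smul_eq_mul, ← TensorProduct.smul_tmul, Algebra.smul_def, mul_one,
    Ideal.algebraMap_residueField_eq_zero.2 hP, zero_tmul]

end Groth.Agent.BertiniPn
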