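import Groth.Agent.BertiniPn.Basic
import Groth.Agent.SepTang48.Chart
import Groth.Agent.HyperP.Linear
import Mathlib.AlgebraicGeometry.Morphisms.Smooth
import Mathlib.AlgebraicGeometry.Morphisms.ClosedImmersion

/-!
# Bertini on the standard charts of a smooth subscheme of projective space
-/

set_option autoImplicit false
set_option linter.style.haveILetI false

universe u

open CategoryTheory AlgebraicGeometry TopologicalSpace HomogeneousLocalization

noncomputable section

namespace Groth.Agent.BertiniPn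

open Groth.Agent.SepTang48 Groth.Agent.QCoh Groth.Agent.ProjMorph Groth.Agent.Props.ProjFrame

variable {k : Type u} [Field k] {n : ℕ} {X : Scheme.{u}} (ι : X ⟶ CohB1.ProjSpace n k)

/-- The chart of `X`. -/
abbrev U (j : Fin (n + 1)) : X.Opens := ι ⁻¹ᵁ D k n j

theorem isAffineOpen_U [IsClosedImmersion ι] (j : Fin (n + 1)) : IsAffineOpen (U ι j) :=
  (isAffineOpen_D k n j).preimage ι

/-- The scalars of a chart. -/
def uConst (j : Fin (n + 1)) : k →+* Γ(X, U ι j) := (ι.app (D k n j)).hom.comp (const k n j)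

/-- A linear form divided by `X j`, on `X`. -/
def hsec (j : Fin (n + 1)) (c : Fin (n + 1) → k) : Γ(X, U ι j) := ι.app (D k n j) (lin k n j c)

theorem span_D_of_surjective {A : Type u} [CommRing A] [Algebra k A] {σ : Type*} (x : σ → A)
    (hx : Function.Surjective (MvPolynomial.aeval x : MvPolynomial σ k →ₐ[k] A)) :
    Submodule.span A (Set.range fun i => KaehlerDifferential.D k A (x i)) = ⊤ := by
  rw [eq_top_iff, ← KaehlerDifferential.span_range_derivation, Submodule.span_le]
  rintro _ ⟨z, rfl⟩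
  obtain ⟨p, rfl⟩ := hx z
  induction p using MvPolynomial.induction_on with
  | C r =>
    rw [show MvPolynomial.aeval x (MvPolynomial.C r) = algebraMap k A r from MvPolynomial.aeval_C _ r,
      Derivation.map_algebraMap]
    exact Submodule.zero_mem _
  | add p q hp hq => rw [map_add, map_add]; exact add_mem hp hq
  | mul_X p i hp =>
    rw [map_mul, Derivation.leibniz, MvPolynomial.aeval_X]
    exact add_mem (Submodule.smul_mem _ _ (Submodule.subset_span ⟨i, rfl⟩)) (Submodule.smul_mem _ _ hp)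

theorem appLE_preimage {Y Z : Scheme.{u}} (f : Y ⟶ Z) (V W : Z.Opens) (hVW : V ≤ W) (e : f ⁻¹ᵁ V ≤ f ⁻¹ᵁ W) :
    f.appLE W (f ⁻¹ᵁ V) e = Z.presheaf.map (homOfLE hVW).op ≫ f.app V := by
  rw [Scheme.Hom.app_eq_appLE, Scheme.Hom.map_appLE]

theorem uConst_eq [IsClosedImmersion ι] (j : Fin (n + 1)) :
    uConst ι j = ((ι ≫ CohB1.ProjSpace.toSpec n k).appLE ⊤ (U ι j) le_top).hom.comp
      (Scheme.ΓSpecIso (CommRingCat.of k)).inv.hom := by
  rw [Scheme.Hom.comp_appLE, CommRingCat.hom_comp, RingHom.comp_assoc]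
  refine RingHom.ext fun r => ?_
  exact (RingHom.congr_fun (congrArg CommRingCat.Hom.hom (appLE_preimage ι (D k n j)
    (CohB1.ProjSpace.toSpec n k ⁻¹ᵁ ⊤) le_top le_top)) _).symm

theorem smooth_uConst [IsClosedImmersion ι] [Smooth (ι ≫ CohB1.ProjSpace.toSpec n k)] (j : Fin (n + 1)) :
    (uConst ι j).Smooth := by
  have h : ((ι ≫ CohB1.ProjSpace.toSpec n k).appLE ⊤ (U ι j) le_top).hom.Smooth :=
    HasRingHomProperty.appLE (P := @Smooth) _ inferInstance ⟨⊤, isAffineOpen_top _⟩ ⟨_, isAffineOpen_U ι j⟩ _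
  rw [uConst_eq]
  exact (RingHom.Smooth.respectsIso.cancel_left_isIso (Scheme.ΓSpecIso (CommRingCat.of k)).inv _).2 h

/-- General linear forms cut smoothly on each chart. -/
theorem exists_chart_poly [IsClosedImmersion ι] [Smooth (ι ≫ CohB1.ProjSpace.toSpec n k)] (j : Fin (n + 1)) :
    ∃ g : MvPolynomial (Fin (n + 1)) k, g ≠ 0 ∧ ∀ c : Fin (n + 1) → k, MvPolynomial.eval c g ≠ 0 →
      ((Ideal.Quotient.mk (Ideal.span {hsec ι j c})).comp (uConst ι j)).Smooth := by
  letI : Algebra k Γ(X, U ι j) := (uConst ι j).toAlgebra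
  haveI : Algebra.Smooth k Γ(X, U ι j) := smooth_uConst ι j
  let x : Fin (n + 1) → Γ(X, U ι j) := fun l => ι.app (D k n j) (ρ k n j l)
  have hx : Function.Surjective (MvPolynomial.aeval x : MvPolynomial (Fin (n + 1)) k →ₐ[k] _) := fun a => by
    obtain ⟨b, rfl⟩ := ι.app_surjective (D k n j) (isAffineOpen_D k n j) a
    obtain ⟨Q, rfl⟩ := exists_eval₂ k n j b
    refine ⟨Q, ?_⟩
    rw [MvPolynomial.map_eval₂Hom]
    rfl
  obtain ⟨g, hg0, hg⟩ := exists_smooth_poly (k := k) x j (by simp [x, ρ_self]) (span_D_of_surjective x hx)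
  refine ⟨g, hg0, fun c hc => ?_⟩
  haveI := hg c hc
  have hsum : ∑ i, algebraMap k Γ(X, U ι j) (c i) * x i = hsec ι j c := by
    simp only [hsec, lin, map_sum, map_mul]
    rfl
  rw [hsum] at this
  haveI : Algebra.FinitePresentation k (Γ(X, U ι j) ⧸ Ideal.span {hsec ι j c}) :=
    Algebra.FinitePresentation.of_finiteType.1 inferInstance
  have : Algebra.Smooth k (Γ(X, U ι j) ⧸ Ideal.span {hsec ι j c}) := ⟨inferInstance, inferInstance⟩
  exact RingHom.smooth_algebraMap.2 this

theorem exists_general [IsClosedImmersion ι] [Smooth (ι ≫ CohB1.ProjSpace.toSpec n k)] (x₀ : X) :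
    ∃ g : MvPolynomial (Fin (n + 1)) k, g ≠ 0 ∧ ∀ c : Fin (n + 1) → k, MvPolynomial.eval c g ≠ 0 →
      (∀ j, ((Ideal.Quotient.mk (Ideal.span {hsec ι j c})).comp (uConst ι j)).Smooth) ∧
      (∑ i, MvPolynomial.C (c i) * MvPolynomial.X i : MvPolynomial (Fin (n + 1)) k) ∉
        (ι.base x₀).asHomogeneousIdeal := by
  classical
  choose g hg0 hg using exists_chart_poly ι
  let P := (ι.base x₀).asHomogeneousIdeal.toIdeal
  haveI : P.IsPrime := (ι.base x₀).isPrime
  obtain ⟨l, hl⟩ : ∃ l, ι.base x₀ ∈ D k n l :=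
    Opens.mem_iSup.1 ((iSup_D k n).ge (trivial : ι.base x₀ ∈ (⊤ : (CohB1.ProjSpace n k).Opens)))
  obtain ⟨g₁, hg₁, hb₁⟩ := exists_avoid_poly P l hl 1
  let e : (Fin 1 → Fin (n + 1)) ≃ Fin (n + 1) := Equiv.funUnique _ _
  refine ⟨(∏ j, g j) * MvPolynomial.rename e g₁, mul_ne_zero (Finset.prod_ne_zero_iff.2 fun j _ => hg0 j)
    fun h => hg₁ (MvPolynomial.rename_injective _ e.injective (by rw [h, map_zero])), fun c hc => ?_⟩
  rw [map_mul, map_prod, mul_ne_zero_iff, Finset.prod_ne_zero_iff, MvPolynomial.eval_rename] at hc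
  refine ⟨fun j => hg j c (hc.1 j (Finset.mem_univ _)), fun hm => hb₁ (c ∘ e) hc.2 ?_⟩
  have : form 1 (c ∘ e) = (∑ i, MvPolynomial.C (c i) * MvPolynomial.X i : MvPolynomial (Fin (n + 1)) k) := by
    rw [form, ← Equiv.sum_comp e (fun i => MvPolynomial.C (c i) * MvPolynomial.X i)]
    refine Finset.sum_congr rfl fun t _ => ?_
    simp [e]
  rw [this]
  exact hm

/-- A linear form over `X j` is the combination of the coordinates. -/
theorem ratio_eq_lin (j : Fin (n + 1)) {h : MvPolynomial (Fin (n + 1)) k} (hh : h ∈ CohB1.polyGrading n k 1) :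
    ratio (X_mem k n j) hh = lin k n j fun i => MvPolynomial.coeff (Finsupp.single i 1) h := by
  rw [← awayToSection_mk_one (X_mem k n j) hh (by simpa using hh), lin]
  have hρ : ∀ i, ρ k n j i = Proj.awayToSection (CohB1.polyGrading n k) (MvPolynomial.X j)
      (Away.mk (CohB1.polyGrading n k) (X_mem k n j) 1 (MvPolynomial.X i) (by simpa using X_mem k n i)) :=
    fun i => (awayToSection_mk_one (X_mem k n j) (X_mem k n i) (by simpa using X_mem k n i)).symm
  simp only [hρ, const_eq, RingHom.comp_apply]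
  have key : (Away.mk (CohB1.polyGrading n k) (X_mem k n j) 1 h (by simpa using hh) :
      Away (CohB1.polyGrading n k) (MvPolynomial.X j)) = ∑ i, fromZeroRingHom (CohB1.polyGrading n k) _
        (algebraMap k (CohB1.polyGrading n k 0) (MvPolynomial.coeff (Finsupp.single i 1) h)) *
        Away.mk (CohB1.polyGrading n k) (X_mem k n j) 1 (MvPolynomial.X i) (by simpa using X_mem k n i) := by
    refine HomogeneousLocalization.val_injective _ ?_
    rw [← HomogeneousLocalization.algebraMap_apply, ← HomogeneousLocalization.algebraMap_apply, map_sum]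
    simp only [map_mul, HomogeneousLocalization.algebraMap_apply, Away.val_mk]
    conv_lhs => rw [HyperP.eq_sum_linear h hh]
    rw [Localization.mk_eq_mk', IsLocalization.mk'_eq_mul_mk'_one, map_sum, Finset.sum_mul]
    refine Finset.sum_congr rfl fun i _ => ?_
    rw [show (fromZeroRingHom (CohB1.polyGrading n k) (Submonoid.powers (MvPolynomial.X j : MvPolynomial (Fin (n + 1)) k))
        (algebraMap k (CohB1.polyGrading n k 0) (MvPolynomial.coeff (Finsupp.single i 1) h))).val =
        Localization.mk (MvPolynomial.C (MvPolynomial.coeff (Finsupp.single i 1) h)) 1 from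
      HomogeneousLocalization.val_mk _]
    rw [Localization.mk_eq_mk', IsLocalization.mk'_one,
      IsLocalization.mk'_eq_mul_mk'_one (MvPolynomial.X i), map_mul, mul_assoc]
  rw [key, map_sum]
  exact Finset.sum_congr rfl fun i _ => map_mul _ _ _

end Groth.Agent.BertiniPn
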